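import Mathlib
import Groth.Agent.H70.MinFree.ModelBC
import Groth.Agent.H70.MinFree.NilLift
import Groth.Agent.H46.GenFree.Reduced

/-!
# Noetherian core: a flat model module over a nontrivial Noetherian ring is free over a
nonempty principal open
-/

set_option autoImplicit false
set_option linter.style.haveILetI false
universe u
open TensorProduct Function

namespace Groth.Agent.H70.Strat

open Groth.Agent.H1.FlatLocus Groth.Agent.H70.MinFree

attribute [local instance] MvPolynomial.algebraMvPolynomial

variable {Z : Type u} [CommRing Z] (𝓜 : Model Z)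

/-- model modules over localizations -/
theorem nonempty_localizedModule_equiv (D : Type u) [CommRing D] [Algebra Z D] (a : D) :
    Nonempty (LocalizedModule (Submonoid.powers a) (𝓜.Mod D) ≃ₗ[Localization.Away a]
      𝓜.Mod (Localization.Away a)) :=
  ⟨(LocalizedModule.equivTensorProduct (Submonoid.powers a) (𝓜.Mod D)) ≪≫ₗ
    modBaseChange 𝓜 D (Localization.Away a)⟩

theorem exists_free_of_noetherian' (C : Type u) [CommRing C] [Algebra Z C] [IsNoetherianRing C]
    [Nontrivial C] (hflat : Module.Flat C (𝓜.Mod C)) :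
    ∃ s : C, ¬ IsNilpotent s ∧
      Module.Free (Localization.Away s) (𝓜.Mod (Localization.Away s)) := by
  set n := nilradical C with hn
  let D := C ⧸ n
  haveI : IsReduced D := by
    have : n.IsRadical := by
      rw [hn]
      exact Ideal.radical_isRadical _
    exact (Ideal.isRadical_iff_quotient_reduced n).mp this
  haveI : Nontrivial D := by
    apply Ideal.Quotient.nontrivial_iff.mpr
    intro h
    have : (1 : C) ∈ nilradical C := by rw [← hn, h]; trivial
    exact not_isNilpotent_one (mem_nilradical.mp this)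
  obtain ⟨f, hf, hcond⟩ := Groth.Agent.H46.GenFree.exists_cond D (𝓜.P D) (𝓜.Mod D) 1 one_ne_zero
  have hfree0 := hcond.1
  set abar : D := 1 * f with habar
  obtain ⟨s, hs⟩ := Ideal.Quotient.mk_surjective abar
  have hsnil : ¬ IsNilpotent s := by
    intro h
    apply hf
    rw [← hs]
    exact Ideal.Quotient.eq_zero_iff_mem.mpr (mem_nilradical.mpr h)
  refine ⟨s, hsnil, ?_⟩
  let C₁ := Localization.Away s
  let I₁ : Ideal C₁ := n.map (algebraMap C C₁)
  let D₁ := C₁ ⧸ I₁
  have hI₁ : IsNilpotent I₁ := by
    obtain ⟨k, hk⟩ := IsNoetherianRing.isNilpotent_nilradical C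
    refine ⟨k, ?_⟩
    change (n.map (algebraMap C C₁)) ^ k = 0
    rw [← Ideal.map_pow]
    rw [show n ^ k = ⊥ from hk, Ideal.map_bot]
    rfl
  haveI hloc : IsLocalization (Algebra.algebraMapSubmonoid D (Submonoid.powers s)) D₁ :=
    inferInstance
  have hunit : IsUnit (algebraMap D D₁ abar) := by
    rw [← hs]
    exact IsLocalization.map_units D₁
      (⟨_, ⟨s, Submonoid.mem_powers s, rfl⟩⟩ :
        Algebra.algebraMapSubmonoid D (Submonoid.powers s))
  -- freeness over `Localization.Away abar`
  obtain ⟨e₀⟩ := nonempty_localizedModule_equiv 𝓜 D abar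
  have hfree₀ : Module.Free (Localization.Away abar) (𝓜.Mod (Localization.Away abar)) :=
    @Module.Free.of_equiv _ _ _ _ _ _ _ _ _ _ _ _ _ _ e₀ hfree0
  -- ring map `Localization.Away abar → D₁`
  let ψ : Localization.Away abar →+* D₁ := IsLocalization.Away.lift abar hunit
  have hψ : ∀ d : D, ψ (algebraMap D (Localization.Away abar) d) = algebraMap D D₁ d :=
    fun d => IsLocalization.Away.lift_eq abar hunit d
  letI : Algebra (Localization.Away abar) D₁ := ψ.toAlgebra
  haveI : IsScalarTower Z D D₁ := by
    refine IsScalarTower.of_algebraMap_eq fun z => ?_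
    rfl
  haveI : IsScalarTower Z (Localization.Away abar) D₁ := by
    refine IsScalarTower.of_algebraMap_eq fun z => ?_
    change algebraMap Z D₁ z = ψ (algebraMap Z (Localization.Away abar) z)
    rw [IsScalarTower.algebraMap_apply Z D (Localization.Away abar), hψ,
      ← IsScalarTower.algebraMap_apply Z D D₁]
  have hfree₂ : Module.Free D₁ (𝓜.Mod D₁) :=
    free_mod_of_free 𝓜 (Localization.Away abar) D₁ hfree₀
  have hfree₃ : Module.Free D₁ (D₁ ⊗[C₁] 𝓜.Mod C₁) :=
    Module.Free.of_equiv (modBaseChange 𝓜 C₁ D₁).symm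
  haveI : Module.Flat C₁ (𝓜.Mod C₁) := flat_mod_of_flat 𝓜 C C₁ hflat
  exact free_of_flat_of_free_quotient I₁ hI₁ (𝓜.Mod C₁)

end Groth.Agent.H70.Strat
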