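import Mathlib
import Groth.Agent.H70.Strat.Noeth

/-!
# Principal stratification by Noetherian induction
-/

set_option autoImplicit false
set_option linter.style.haveILetI false
universe u
open TensorProduct Function

namespace Groth.Agent.H70.Strat

open Groth.Agent.H1.FlatLocus Groth.Agent.H70.MinFree

attribute [local instance] MvPolynomial.algebraMvPolynomial

variable {Z : Type u} [CommRing Z] (𝓜 : Model Z)

/-- the freeness condition of a stratum `D(a) ∩ V(K)` -/
def FreeAt (C : Type u) [CommRing C] [Algebra Z C] (a : C) (K : Ideal C) : Prop :=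
  Module.Free (Localization.Away a ⧸ K.map (algebraMap C (Localization.Away a)))
    (𝓜.Mod (Localization.Away a ⧸ K.map (algebraMap C (Localization.Away a))))

/-- a principal stratification of `V(I)` -/
def Good (C : Type u) [CommRing C] [Algebra Z C] (I : Ideal C) : Prop :=
  ∃ l : List C, I ⊔ Ideal.span {a | a ∈ l} = ⊤ ∧
    ∀ (i : ℕ) (hi : i < l.length) (K : Ideal C), K = I ⊔ Ideal.span {a | a ∈ l.take i} →
      FreeAt 𝓜 C l[i] K

variable (C : Type u) [CommRing C] [Algebra Z C]

/-- the first stratum -/
theorem exists_freeAt [IsNoetherianRing C] (hflat : Module.Flat C (𝓜.Mod C)) (I : Ideal C)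
    (hI : I ≠ ⊤) : ∃ s : C, s ∉ I ∧ FreeAt 𝓜 C s I := by
  let Cb := C ⧸ I
  haveI : Nontrivial Cb := Ideal.Quotient.nontrivial_iff.mpr hI
  have hflatb : Module.Flat Cb (𝓜.Mod Cb) := flat_mod_of_flat 𝓜 C Cb hflat
  obtain ⟨sb, hsb, hfree⟩ := exists_free_of_noetherian' 𝓜 Cb hflatb
  obtain ⟨s, rfl⟩ := Ideal.Quotient.mk_surjective sb
  have hsI : s ∉ I := by
    intro h
    apply hsb
    rw [Ideal.Quotient.eq_zero_iff_mem.mpr h]
    exact IsNilpotent.zero
  refine ⟨s, hsI, ?_⟩
  let C₁ := Localization.Away s
  let D₁ := C₁ ⧸ I.map (algebraMap C C₁)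
  haveI hloc : IsLocalization (Algebra.algebraMapSubmonoid Cb (Submonoid.powers s)) D₁ :=
    inferInstance
  have hunit : IsUnit (algebraMap Cb D₁ (Ideal.Quotient.mk I s)) :=
    IsLocalization.map_units D₁
      (⟨_, ⟨s, Submonoid.mem_powers s, rfl⟩⟩ :
        Algebra.algebraMapSubmonoid Cb (Submonoid.powers s))
  let ψ : Localization.Away (Ideal.Quotient.mk I s) →+* D₁ :=
    IsLocalization.Away.lift (Ideal.Quotient.mk I s) hunit
  have hψ : ∀ d : Cb, ψ (algebraMap Cb (Localization.Away (Ideal.Quotient.mk I s)) d) =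
      algebraMap Cb D₁ d :=
    fun d => IsLocalization.Away.lift_eq (Ideal.Quotient.mk I s) hunit d
  letI : Algebra (Localization.Away (Ideal.Quotient.mk I s)) D₁ := ψ.toAlgebra
  haveI : IsScalarTower Z Cb D₁ := by
    refine IsScalarTower.of_algebraMap_eq fun z => ?_
    rfl
  haveI : IsScalarTower Z (Localization.Away (Ideal.Quotient.mk I s)) D₁ := by
    refine IsScalarTower.of_algebraMap_eq fun z => ?_
    change algebraMap Z D₁ z = ψ (algebraMap Z (Localization.Away (Ideal.Quotient.mk I s)) z)
    rw [IsScalarTower.algebraMap_apply Z Cb (Localization.Away (Ideal.Quotient.mk I s)), hψ,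
      ← IsScalarTower.algebraMap_apply Z Cb D₁]
  exact free_mod_of_free 𝓜 (Localization.Away (Ideal.Quotient.mk I s)) D₁ hfree

theorem setOf_mem_cons (s : C) (l : List C) :
    {a | a ∈ s :: l} = {s} ∪ {a | a ∈ l} := by
  ext a
  simp

theorem good_of_noetherian [IsNoetherianRing C] (hflat : Module.Flat C (𝓜.Mod C)) (I : Ideal C) :
    Good 𝓜 C I := by
  induction I using IsNoetherian.induction with
  | hgt I ih =>
    by_cases hI : I = ⊤
    · refine ⟨[], ?_, ?_⟩
      · rw [hI, top_sup_eq]
      · intro i hi
        exact absurd hi (Nat.not_lt_zero i)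
    · obtain ⟨s, hsI, hfree⟩ := exists_freeAt 𝓜 C hflat I hI
      have hlt : I < I ⊔ Ideal.span {s} := by
        refine lt_of_le_of_ne le_sup_left ?_
        intro h
        apply hsI
        rw [h]
        exact Ideal.mem_sup_right (Ideal.subset_span rfl)
      obtain ⟨l', hl'top, hl'⟩ := ih _ hlt
      refine ⟨s :: l', ?_, ?_⟩
      · rw [setOf_mem_cons, Ideal.span_union, ← sup_assoc]
        exact hl'top
      · intro i hi K hK
        cases i with
        | zero =>
          have : K = I := by
            rw [hK]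
            simp
          subst this
          exact hfree
        | succ i =>
          have hi' : i < l'.length := by simpa using hi
          have hK' : K = (I ⊔ Ideal.span {s}) ⊔ Ideal.span {a | a ∈ l'.take i} := by
            rw [hK, List.take_succ_cons, setOf_mem_cons, Ideal.span_union, ← sup_assoc]
          exact hl' i hi' K hK'

end Groth.Agent.H70.Strat
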