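import Mathlib
import Groth.Agent.H70.Strat.Induction
import Groth.Agent.H70.MinFree.Final

/-!
# Principal stratification over which a flat f.p. module becomes free (EGA IV 11.3.? / S2591)
-/

set_option autoImplicit false
set_option linter.style.haveILetI false
universe u
open TensorProduct Function

namespace Groth.Agent.H70.Strat

open Groth.Agent.H1.FlatLocus Groth.Agent.H70.MinFree

attribute [local instance] MvPolynomial.algebraMvPolynomial

variable {Z : Type u} [CommRing Z] (𝓜 : Model Z)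

theorem freeAt_of_algebra (C A : Type u) [CommRing C] [CommRing A] [Algebra Z C] [Algebra Z A]
    [Algebra C A] [IsScalarTower Z C A] (c : C) (K : Ideal C) (a : A) (KA : Ideal A)
    (ha : a = algebraMap C A c) (hK : K.map (algebraMap C A) ≤ KA) (h : FreeAt 𝓜 C c K) :
    FreeAt 𝓜 A a KA := by
  subst ha
  let Cc := Localization.Away c
  let Aa := Localization.Away (algebraMap C A c)
  have hunit : IsUnit ((algebraMap A Aa).comp (algebraMap C A) c) :=
    IsLocalization.Away.algebraMap_isUnit (algebraMap C A c)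
  let φ₁ : Cc →+* Aa := IsLocalization.Away.lift c hunit
  have hφ₁ : ∀ x : C, φ₁ (algebraMap C Cc x) = algebraMap A Aa (algebraMap C A x) :=
    fun x => IsLocalization.Away.lift_eq c hunit x
  have hle : K.map (algebraMap C Cc) ≤ (KA.map (algebraMap A Aa)).comap φ₁ := by
    rw [Ideal.map_le_iff_le_comap]
    intro k hk
    rw [Ideal.mem_comap, Ideal.mem_comap, hφ₁]
    exact Ideal.mem_map_of_mem _ (hK (Ideal.mem_map_of_mem _ hk))
  let φ₂ : (Cc ⧸ K.map (algebraMap C Cc)) →+* (Aa ⧸ KA.map (algebraMap A Aa)) :=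
    Ideal.quotientMap (KA.map (algebraMap A Aa)) φ₁ hle
  letI : Algebra (Cc ⧸ K.map (algebraMap C Cc)) (Aa ⧸ KA.map (algebraMap A Aa)) := φ₂.toAlgebra
  haveI : IsScalarTower Z (Cc ⧸ K.map (algebraMap C Cc)) (Aa ⧸ KA.map (algebraMap A Aa)) := by
    refine IsScalarTower.of_algebraMap_eq (R := Z) (S := Cc ⧸ K.map (algebraMap C Cc))
      (A := Aa ⧸ KA.map (algebraMap A Aa)) fun z => ?_
    change algebraMap Z (Aa ⧸ KA.map (algebraMap A Aa)) z =
      φ₂ (algebraMap Z (Cc ⧸ K.map (algebraMap C Cc)) z)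
    have h1 : algebraMap Z (Cc ⧸ K.map (algebraMap C Cc)) z =
        Ideal.Quotient.mk (K.map (algebraMap C Cc)) (algebraMap C Cc (algebraMap Z C z)) := by
      rw [← IsScalarTower.algebraMap_apply Z C Cc]
      rfl
    rw [h1]
    change _ = Ideal.Quotient.mk (KA.map (algebraMap A Aa))
      (φ₁ (algebraMap C Cc (algebraMap Z C z)))
    rw [hφ₁, ← IsScalarTower.algebraMap_apply Z C A, ← IsScalarTower.algebraMap_apply Z A Aa]
    rfl
  exact free_mod_of_free 𝓜 (Cc ⧸ K.map (algebraMap C Cc)) (Aa ⧸ KA.map (algebraMap A Aa)) h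

theorem setOf_mem_map {C A : Type u} (φ : C → A) (l : List C) :
    {a | a ∈ l.map φ} = φ '' {c | c ∈ l} := by
  ext a
  simp

theorem exists_list [IsNoetherianRing Z] (A : Type u) [CommRing A] [Algebra Z A]
    [Module.Flat A (𝓜.Mod A)] :
    ∃ l : List A, Ideal.span {a | a ∈ l} = ⊤ ∧
      ∀ (i : ℕ) (hi : i < l.length), FreeAt 𝓜 A l[i] (Ideal.span {a | a ∈ l.take i}) := by
  obtain ⟨C, hCfg, hCflat⟩ := 𝓜.exists_fg_subalgebra_flat A
  haveI : Algebra.FiniteType Z C := (Subalgebra.fg_iff_finiteType C).mp hCfg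
  haveI : IsNoetherianRing C := Algebra.FiniteType.isNoetherianRing Z C
  obtain ⟨lC, hlC, hfree⟩ := good_of_noetherian 𝓜 C hCflat ⊥
  rw [bot_sup_eq] at hlC
  refine ⟨lC.map (algebraMap C A), ?_, ?_⟩
  · rw [setOf_mem_map, ← Ideal.map_span, hlC, Ideal.map_top]
  · intro i hi
    have hi' : i < lC.length := by simpa using hi
    refine freeAt_of_algebra 𝓜 C A lC[i] (Ideal.span {c | c ∈ lC.take i}) _ _ ?_ ?_
      (hfree i hi' _ (bot_sup_eq _).symm)
    · simp
    · rw [Ideal.map_span, ← setOf_mem_map, List.map_take]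

/-- **Principal stratification with free strata** for a flat finitely presented module over a
finitely presented algebra. -/
theorem exists_principal_stratification {A B : Type u} [CommRing A] [CommRing B] [Algebra A B]
    [Algebra.FinitePresentation A B] (M : Type u) [AddCommGroup M] [Module B M] [Module A M]
    [IsScalarTower A B M] [Module.FinitePresentation B M] [Module.Flat A M] :
    ∃ l : List A, Ideal.span {a | a ∈ l} = ⊤ ∧
      ∀ (i : ℕ) (hi : i < l.length),
        letI J : Ideal (Localization.Away l[i]) :=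
          (Ideal.span {a | a ∈ l.take i}).map (algebraMap A (Localization.Away l[i]))
        Module.Free (Localization.Away l[i] ⧸ J) ((Localization.Away l[i] ⧸ J) ⊗[A] M) := by
  obtain ⟨Z, hZ, 𝓜, φ, e, hφ, he⟩ := exists_model A B M
  have hft : Algebra.FiniteType ℤ Z := (Subalgebra.fg_iff_finiteType Z).mp hZ
  haveI hZnoeth : IsNoetherianRing Z := Algebra.FiniteType.isNoetherianRing ℤ Z
  have heA : ∀ (r : A) (x : 𝓜.Mod A), e (r • x) = r • e x := by
    intro r x
    rw [← algebraMap_smul (𝓜.P A) r x, he, AlgHom.commutes, algebraMap_smul]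
  let eA : 𝓜.Mod A ≃ₗ[A] M := { e with map_smul' := heA }
  haveI : Module.Flat A (𝓜.Mod A) := Module.Flat.of_linearEquiv eA
  obtain ⟨l, hl, hfree⟩ := exists_list 𝓜 A
  refine ⟨l, hl, fun i hi => ?_⟩
  let J : Ideal (Localization.Away l[i]) :=
    (Ideal.span {a | a ∈ l.take i}).map (algebraMap A (Localization.Away l[i]))
  haveI : IsScalarTower Z A (Localization.Away l[i] ⧸ J) := by
    refine IsScalarTower.of_algebraMap_eq (R := Z) (S := A)
      (A := Localization.Away l[i] ⧸ J) fun z => ?_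
    rfl
  obtain ⟨e'⟩ := nonempty_equiv_mod 𝓜 eA (Localization.Away l[i] ⧸ J)
  exact @Module.Free.of_equiv _ _ _ _ _ _ _ _ _ _ _ _ _ _ e'.symm (hfree i hi)

end Groth.Agent.H70.Strat
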